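import Groth.Agent.L10.TwistPush.Terms
import Groth.Agent.L19.AmpleResInf
import Groth.Agent.L29.DCoh.RpushProj
import Groth.Agent.L29.DCoh.ClosedProj
import Groth.Agent.L29.DCoh.Gen.RpushTri
import Groth.Agent.L29.DCoh.Gen.Loc
import Groth.Agent.Lead.ClosedRpush
import Groth.Agent.Lead.TwistEquiv
import Groth.Agent.Lead.LTMod
import Groth.Agent.Lead.RpushHD
import Groth.Agent.L18.AmpleOps
import Groth.Agent.L18.VeryAmpleOver
import Groth.Agent.L17.Strat.Poly
import Groth.Agent.L16.ProjSpace.RelTwist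
import Groth.Agent.L16.ProjSpace.CohTwist
import Groth.Agent.L17.ToAbRpush
import Groth.Agent.L10.RelPC.RpushBound
import Groth.Prelude.Def_KSix

/-!
Large twists of pseudo-coherent complexes on projective space have no higher direct images above the top degree.
-/

set_option autoImplicit false
set_option linter.style.haveILetI false
set_option backward.defeqAttrib.useBackward true
set_option backward.isDefEq.respectTransparency false
set_option backward.isDefEq.respectTransparency.types false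

universe u

open CategoryTheory CategoryTheory.Limits CategoryTheory.Pretriangulated AlgebraicGeometry

attribute [local instance] HasDerivedCategory.standard

noncomputable section

namespace Groth.L10.TwistPush

open scoped ZeroObject
open Groth.L00.Tensor (tensorIso tensorAssoc tensorComm tensorUnitLeft)

variable (r : ℕ) (Y : Scheme.{u})

local notation "PY" => CohB1.ProjSpaceOver r Y
local notation "pY" => CohB1.ProjSpaceOver.toBase r Y
local notation "Ot" => Twist.twistOver r Y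

theorem hfl (n : ℤ) : FlatMod.IsFinLocFree (Ot n) :=
  Groth.L16.Existence.isFinLocFree_of_isInvertible (Groth.L17.Strat.isInvertible_twistOver r Y n)

/-- the twist -/
abbrev Tw (n : ℤ) : DCoh.D PY ⥤ DCoh.D PY := Groth.Lead.TwistEquiv.T (Ot n) (hfl r Y n)

theorem isAmpleFamily [IsAffine Y] :
    KSix.IsAmpleFamily (fun _ : PUnit.{u+1} => Ot 1) := by
  haveI : IsProper pY := Groth.L16.ProjSpace.isProper_toBase r Y
  haveI : CompactSpace PY := QuasiCompact.compactSpace_of_compactSpace pY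
  haveI : QuasiSeparatedSpace PY := quasiSeparatedSpace_of_quasiSeparated pY
  have h := Groth.L18.Ample.isAmple_of_isRelAmple (Groth.L18.VeryAmpleOver.isRelAmple_twistOver r Y)
  exact ⟨inferInstance, inferInstance, fun _ => h.1, fun x => by
    obtain ⟨n, s, hs⟩ := h.2.2 x
    exact ⟨PUnit.unit, n, s, hs⟩⟩

/-- non-negative twists of a negative power -/
theorem exists_twist_iso {N : (PY).Modules} (hN : KSix.IsNegPower (fun _ : PUnit.{u+1} => Ot 1) N) :
    ∃ k : ℕ, ∀ n : ℤ, (k : ℤ) ≤ n → ∃ d : ℤ, 0 ≤ d ∧ Nonempty (CohB1.tensorMod N (Ot n) ≅ Ot d) := by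
  obtain ⟨j, k, -, ⟨e⟩⟩ := hN
  refine ⟨k, fun n hn => ⟨n - k, by omega, ?_⟩⟩
  obtain ⟨a⟩ := Groth.L17.Strat.nonempty_twistOver_add r Y (n - k) k
  exact ⟨tensorIso (Iso.refl N) ((eqToIso (by rw [show n - (k : ℤ) + k = n by ring])).symm) ≪≫
    tensorIso (Iso.refl N) (a.symm ≪≫ tensorComm _ _) ≪≫ (tensorAssoc _ _ _).symm ≪≫
    tensorIso e (Iso.refl _) ≪≫ tensorUnitLeft _⟩

theorem isLE_single [DCoh.HasRpush pY] {M : (PY).Modules}
    (h : ∀ q : ℕ, 0 < q → IsZero ((Coh.RpushAb pY q).obj (Coh.toAb M))) :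
    ((DCoh.Rpush pY).obj (DCoh.inD PY M)).IsLE 0 := by
  haveI := Groth.L17.PushQCoh.hasInjectiveResolutions (CohB1.ProjSpaceOver r Y)
  rw [DerivedCategory.isLE_iff]
  intro i hi
  obtain ⟨q, rfl⟩ : ∃ q : ℕ, i = q := ⟨i.toNat, by omega⟩
  obtain ⟨e⟩ := Groth.Lead.RpushHD.nonempty_HD_Rpush_inD pY M q
  refine IsZero.of_iso ?_ e
  obtain ⟨e'⟩ := Groth.L17.nonempty_toAb_Rpush_iso pY M q
  exact Groth.L17.PushQCoh.isZero_of_toAb (IsZero.of_iso (h q (by omega)) e')

theorem isLE_twist_single [DCoh.HasRpush pY] (d : ℤ) (hd : 0 ≤ d) :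
    ((DCoh.Rpush pY).obj (DCoh.inD PY (Ot d))).IsLE 0 :=
  isLE_single r Y fun q hq => Groth.L16.ProjSpace.isZero_RpushAb_twistOver r d q fun R _ =>
    Groth.L16.ProjSpace.subsingleton_HH_twist r R d q (by omega) (by omega)

attribute [local instance] HasFiniteBiproducts.of_hasFiniteProducts

/-- large twists of an object of `L(X)` -/
theorem exists_bound_inAddL [DCoh.HasRpush pY] {M : (PY).Modules}
    (hM : KSix.InAddL (fun _ : PUnit.{u+1} => Ot 1) M) :
    ∃ k : ℕ, ∀ n : ℤ, (k : ℤ) ≤ n → ((DCoh.Rpush pY).obj (DCoh.inD PY ((DCoh.tensorRightMod (Ot n)).obj M))).IsLE 0 := by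
  classical
  obtain ⟨m, N, hN, ⟨e⟩⟩ := hM
  choose k hk using fun j => exists_twist_iso r Y (hN j)
  refine ⟨Finset.univ.sup k, fun n hn => ?_⟩
  letI := Groth.L29.DC.Gen.commShiftRpush pY
  haveI := Groth.L29.DC.Gen.isTriangulated_Rpush pY
  haveI := (Groth.L16.Rees.PushExact.exact_instances (hfl r Y n)).1
  haveI := (Groth.L16.Rees.PushExact.exact_instances (hfl r Y n)).2
  let R : (PY).Modules ⥤ DCoh.D Y := DCoh.tensorRightMod (Ot n) ⋙ DerivedCategory.singleFunctor _ 0 ⋙ DCoh.Rpush pY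
  haveI : R.Additive := inferInstance
  rw [DerivedCategory.isLE_iff]
  intro i hi
  let H : (PY).Modules ⥤ Y.Modules := R ⋙ DerivedCategory.homologyFunctor Y.Modules i
  haveI : H.Additive := inferInstance
  refine (IsZero.iff_id_eq_zero _).2 ?_
  have hz : ∀ j, IsZero (H.obj (N j)) := fun j => by
    obtain ⟨d, hd, ⟨ed⟩⟩ := hk j n (le_trans (by exact_mod_cast Finset.le_sup (Finset.mem_univ j)) hn)
    haveI := isLE_twist_single r Y d hd
    refine (DerivedCategory.isZero_of_isLE ((DCoh.Rpush pY).obj (DCoh.inD PY (Ot d))) 0 i hi).of_iso ?_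
    exact (DerivedCategory.homologyFunctor _ i).mapIso ((DCoh.Rpush pY).mapIso
      ((DerivedCategory.singleFunctor _ 0).mapIso ed))
  show 𝟙 (H.obj M) = 0
  have h0 : H.map (𝟙 M) = 0 := by
    rw [← e.hom_inv_id, ← Category.comp_id e.hom, ← biproduct.total, Category.assoc, Preadditive.sum_comp,
      Preadditive.comp_sum, Functor.map_sum]
    refine Finset.sum_eq_zero fun j _ => ?_
    rw [Category.assoc, H.map_comp, H.map_comp, (hz j).eq_of_tgt (H.map (biproduct.π N j)) 0, zero_comp, comp_zero]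
  rwa [H.map_id] at h0

/-- the twist keeps quasi-coherence and upper bounds -/
theorem nonempty_HD_Tw (n : ℤ) (K : DCoh.D PY) (i : ℤ) :
    Nonempty (DCoh.HD ((Tw r Y n).obj K) i ≅ (DCoh.tensorRightMod (Ot n)).obj (DCoh.HD K i)) := by
  haveI := (Groth.L16.Rees.PushExact.exact_instances (hfl r Y n)).1
  haveI := (Groth.L16.Rees.PushExact.exact_instances (hfl r Y n)).2
  let C := DerivedCategory.Q.objPreimage K
  let e := DerivedCategory.Q.objObjPreimageIso K
  let R := DCoh.tensorRightMod (Ot n)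
  exact ⟨(DerivedCategory.homologyFunctor _ i).mapIso ((Tw r Y n).mapIso e.symm ≪≫
      (Groth.Lead.TwistEquiv.TFactors (Ot n) (hfl r Y n)).app C) ≪≫
    (DerivedCategory.homologyFunctorFactors _ i).app ((R.mapHomologicalComplex (ComplexShape.up ℤ)).obj C) ≪≫
    (C.sc i).mapHomologyIso R ≪≫
    R.mapIso (((DerivedCategory.homologyFunctorFactors _ i).app C).symm ≪≫
      (DerivedCategory.homologyFunctor _ i).mapIso e)⟩

theorem isLE_Tw (n : ℤ) {K : DCoh.D PY} {c : ℤ} (h : K.IsLE c) : ((Tw r Y n).obj K).IsLE c := by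
  rw [DerivedCategory.isLE_iff]
  intro i hi
  obtain ⟨e⟩ := nonempty_HD_Tw r Y n K i
  haveI := Functor.preservesZeroMorphisms_of_additive (DCoh.tensorRightMod (Ot n))
  haveI := h
  exact ((DCoh.tensorRightMod (Ot n)).map_isZero (DerivedCategory.isZero_of_isLE K c i hi)).of_iso e

theorem isQCohD_Tw (n : ℤ) {K : DCoh.D PY} (h : DCoh.IsQCohD K) : DCoh.IsQCohD ((Tw r Y n).obj K) := fun i => by
  obtain ⟨e⟩ := nonempty_HD_Tw r Y n K i
  haveI : Coh.IsQCoh (Ot n) := Groth.L29.DC.PCQCoh.isQCoh_of_isFinLocFree (hfl r Y n)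
  haveI := h i
  exact Groth.L29.DC.isQCoh_of_iso' e.symm (Groth.L00.Tensor.isQCoh_tensorMod _ _)

open Groth.L19.AmpleRes Groth.L29.DC Groth.Lead.ResProp in
/-- a pseudo-coherent complex up to a complex of negative powers and a low remainder -/
theorem exists_stage [IsAffine Y] (F : DCoh.D PY) (hF : ∀ m, DCoh.IsPseudoCoherentD m F) (a b : ℤ)
    [F.IsGE b] [F.IsLE a] :
    ∃ (E C : CochainComplex (PY).Modules ℤ) (f : DCoh.toD PY E ⟶ F) (g : F ⟶ DCoh.toD PY C)
      (h : DCoh.toD PY C ⟶ (DCoh.toD PY E)⟦(1 : ℤ)⟧), Triangle.mk f g h ∈ distTriang _ ∧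
      (∀ i, i < a + 1 - (r : ℤ) ∨ a + 1 ≤ i → IsZero (E.X i)) ∧
      (∀ i, KSix.InAddL (fun _ : PUnit.{u+1} => Ot 1) (E.X i)) ∧
      DCoh.IsQCohD (DCoh.toD PY C) ∧ (DCoh.toD PY C).IsLE (a - (r : ℤ)) := by
  have hL := isAmpleFamily r Y
  haveI := hL.1
  haveI := hL.2.1
  let L : PUnit.{u+1} → (PY).Modules := fun _ => Ot 1
  have hX := hasResolutionProperty hL
  let k : ℕ := (a - (b - 1)).toNat
  have hle : F.IsLE (b - 1 + (k : ℕ)) := (DerivedCategory.isLE_iff F _).2 fun i hi =>
    (DerivedCategory.isLE_iff F a).1 inferInstance i (by omega)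
  obtain ⟨F₀, -, hFq, ⟨e⟩⟩ := Groth.Lead.ResD.exists_qcoh_rep (Groth.Lead.ResD.affineHom_ι hX) b
    k F (Groth.L29.DC.PCQCoh.isQCohD_of_pc hF) inferInstance hle
  have hF₀ : ∀ m, DCoh.IsPseudoCoherentD m (DCoh.toD _ F₀) := fun m =>
    Groth.L29.DC.isPseudoCoherentD_of_iso e.symm (hF m)
  have hz0 : ∀ i, IsZero ((0 : CochainComplex (PY).Modules ℤ).X i) := fun i =>
    (HomologicalComplex.eval _ _ i).map_isZero (Limits.isZero_zero _)
  have key : ∀ j : ℕ, j ≤ r → ∃ (E : CochainComplex (PY).Modules ℤ) (φ : E ⟶ F₀),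
      IsStage L φ a (a + 1 - (j : ℤ)) := by
    intro j
    induction j with
    | zero =>
      refine fun _ => ⟨0, 0, fun i _ => hz0 i, fun i => inAddL_of_isZero (hz0 i), fun i hi => ?_⟩
      haveI : IsIso (DerivedCategory.Q.map (CochainComplex.mappingCone.inr (0 : (0 : CochainComplex (PY).Modules ℤ) ⟶ F₀))) := by
        have h := DerivedCategory.mappingCone_triangle_distinguished (0 : (0 : CochainComplex (PY).Modules ℤ) ⟶ F₀)
        exact (Triangle.isZero₁_iff_isIso₂ _ h).1 (DerivedCategory.Q.map_isZero (Limits.isZero_zero _))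
      rw [HomologicalComplex.exactAt_iff_isZero_homology]
      have hi' : IsZero (DCoh.HD (DCoh.toD _ F₀) i) :=
        ((DerivedCategory.isLE_iff F a).1 inferInstance i (by push_cast at hi; omega)).of_iso
          ((DerivedCategory.homologyFunctor _ i).mapIso e)
      exact (hi'.of_iso ((DerivedCategory.homologyFunctor _ i).mapIso (asIso (DerivedCategory.Q.map
        (CochainComplex.mappingCone.inr (0 : (0 : CochainComplex (PY).Modules ℤ) ⟶ F₀)))).symm)).of_iso
          ((DerivedCategory.homologyFunctorFactors _ i).app _).symm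
    | succ j ih =>
      intro hj
      obtain ⟨E, φ, hs⟩ := ih (by omega)
      obtain ⟨E', φ', h', -⟩ := isStage_succ hL hFq hF₀ φ (by omega) hs
      refine ⟨E', φ', ?_⟩
      rwa [show a + 1 - ((j + 1 : ℕ) : ℤ) = a + 1 - (j : ℤ) - 1 by push_cast; ring]
  obtain ⟨E, φ, hz, hEL, hex⟩ := key r le_rfl
  refine ⟨E, CochainComplex.mappingCone φ, DerivedCategory.Q.map φ ≫ e.hom,
    e.inv ≫ DerivedCategory.Q.map (CochainComplex.mappingCone.inr φ), (DerivedCategory.Q.mapTriangle.obj (CochainComplex.mappingCone.triangle φ)).mor₃, ?_, ?_, hEL, ?_, ?_⟩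
  · exact isomorphic_distinguished _ (DerivedCategory.mappingCone_triangle_distinguished φ) _
      (Triangle.isoMk _ _ (Iso.refl _) e.symm (Iso.refl _) (by simp) (by simp) (by simp only [Iso.refl_hom, Triangle.mk_mor₃, Triangle.mk_obj₁, Triangle.mk_obj₃, CategoryTheory.Functor.map_id]; exact (Category.comp_id _).trans (Category.id_comp _).symm))
  · exact fun i hi => hz i (by omega)
  · intro i
    exact Groth.L29.DC.isQCoh_of_iso' ((DerivedCategory.homologyFunctorFactors _ i).app _).symm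
      (Groth.L29.DC.PCQCoh.isQCoh_homology (fun j => isQCoh_cone φ
        (fun l => Groth.L29.DC.PCQCoh.isQCoh_of_isFinLocFree (isFinLocFree_of_inAddL (hEL l))) hFq j) i)
  · rw [DerivedCategory.isLE_iff]
    intro i hi
    exact ((HomologicalComplex.exactAt_iff_isZero_homology _ _).1 (hex i (by omega))).of_iso
      ((DerivedCategory.homologyFunctorFactors _ i).app _)

/-- large twists of a pseudo-coherent complex -/
theorem exists_bound [IsAffine Y] [DCoh.HasRpush pY] (F : DCoh.D PY) (hF : ∀ m, DCoh.IsPseudoCoherentD m F) (a b : ℤ)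
    [F.IsGE b] [F.IsLE a] :
    ∃ N : ℤ, ∀ n : ℤ, N ≤ n → ((DCoh.Rpush pY).obj ((Tw r Y n).obj F)).IsLE a := by
  classical
  obtain ⟨E, C, f, g, h, hT, hz, hEL, hCq, hCle⟩ := exists_stage r Y F hF a b
  choose k hk using fun i => exists_bound_inAddL r Y (hEL i)
  refine ⟨((Finset.Icc (a + 1 - (r : ℤ)) a).sup k : ℕ), fun n hn => ?_⟩
  haveI : IsProper pY := Groth.L16.ProjSpace.isProper_toBase r Y
  haveI := (Groth.L16.Rees.PushExact.exact_instances (hfl r Y n)).1
  haveI := (Groth.L16.Rees.PushExact.exact_instances (hfl r Y n)).2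
  letI := Groth.L29.DC.Gen.commShiftRpush pY
  haveI := Groth.L29.DC.Gen.isTriangulated_Rpush pY
  let T := (DCoh.tensorRightMod (Ot n)).mapDerivedCategory
  refine isLE_map_obj₂ (T ⋙ DCoh.Rpush pY) _ hT a ?_ ?_
  · show ((DCoh.Rpush pY).obj (T.obj (DCoh.toD PY E))).IsLE a
    let E' := ((DCoh.tensorRightMod (Ot n)).mapHomologicalComplex (ComplexShape.up ℤ)).obj E
    haveI := Functor.preservesZeroMorphisms_of_additive (DCoh.tensorRightMod (Ot n))
    have hE' : ((DCoh.Rpush pY).obj (DCoh.toD PY E')).IsLE a := by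
      refine isLE_of_terms (DCoh.Rpush pY) a (a + 1 - (r : ℤ)) r E'
        (fun i hi => (DCoh.tensorRightMod (Ot n)).map_isZero (hz i (by omega))) (by omega) fun i => ?_
      by_cases hi : i ∈ Finset.Icc (a + 1 - (r : ℤ)) a
      · exact hk i n (le_trans (by exact_mod_cast Finset.le_sup hi) hn)
      · exact isLE_of_isZero (DCoh.Rpush pY) ((DerivedCategory.singleFunctor _ 0).map_isZero
          ((DCoh.tensorRightMod (Ot n)).map_isZero (hz i (by simp only [Finset.mem_Icc] at hi; omega)))) 0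
    exact @Triangulated.TStructure.isLE_of_iso _ _ _ _ _ _ _ DerivedCategory.TStructure.t _ _
      ((DCoh.Rpush pY).mapIso ((DCoh.tensorRightMod (Ot n)).mapDerivedCategoryFactors.app E)).symm a hE'
  · show ((DCoh.Rpush pY).obj (T.obj (DCoh.toD PY C))).IsLE a
    have h1 := Groth.L10.RelPC.RpushBound.isLE_Rpush pY r (fun M hM i hi => ?_) ((Tw r Y n).obj (DCoh.toD PY C))
      (isQCohD_Tw r Y n hCq) (a - (r : ℤ)) (isLE_Tw r Y n hCle)
    · have e : a - (r : ℤ) + (r : ℕ) = a := by ring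
      rw [e] at h1
      exact h1
    · haveI := hM
      haveI := Groth.L17.PushQCoh.hasInjectiveResolutions (CohB1.ProjSpaceOver r Y)
      obtain ⟨q, rfl⟩ : ∃ q : ℕ, i = q := ⟨i.toNat, by omega⟩
      obtain ⟨e⟩ := Groth.Lead.RpushHD.nonempty_HD_Rpush_inD pY M q
      exact (Groth.L29.DC.RpushQC.isZero_Rpush_projSpace Y r M q (by omega)).of_iso e

end Groth.L10.TwistPush
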