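import Groth.Agent.L29.RelPC.Terms
import Mathlib.Algebra.Homology.DerivedCategory.ShortExact
import Mathlib.CategoryTheory.Triangulated.TStructure.Basic

/-!
Upper bounds of an exact functor from its values on the terms of a bounded complex.
-/

set_option autoImplicit false
set_option linter.style.haveILetI false
set_option backward.defeqAttrib.useBackward true
set_option backward.isDefEq.respectTransparency false
set_option backward.isDefEq.respectTransparency.types false

universe u

open CategoryTheory CategoryTheory.Limits CategoryTheory.Pretriangulated AlgebraicGeometry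

attribute [local instance] HasDerivedCategory.standard

namespace Groth.L10.TwistPush

variable {P Y : Scheme.{u}} (G : DCoh.D P ⥤ DCoh.D Y) [G.CommShift ℤ] [G.IsTriangulated]

/-- an extension of objects bounded above is bounded above -/
theorem isLE_map_obj₂ (T : Triangle (DCoh.D P)) (hT : T ∈ distTriang _) (a : ℤ)
    (h₁ : (G.obj T.obj₁).IsLE a) (h₃ : (G.obj T.obj₃).IsLE a) : (G.obj T.obj₂).IsLE a :=
  (DerivedCategory.TStructure.t (C := Y.Modules)).isLE₂ _ (G.map_distinguished T hT) a h₁ h₃

theorem isLE_of_isZero {K : DCoh.D P} (h : IsZero K) (a : ℤ) : (G.obj K).IsLE a := by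
  rw [DerivedCategory.isLE_iff]
  exact fun i _ => (DerivedCategory.homologyFunctor Y.Modules i).map_isZero (G.map_isZero h)

/-- bound from the terms -/
theorem isLE_of_terms (a lo : ℤ) : ∀ (k : ℕ) (F : CochainComplex P.Modules ℤ),
    (∀ i, i < lo ∨ lo + (k : ℤ) ≤ i → IsZero (F.X i)) → lo + (k : ℤ) ≤ a + 1 →
    (∀ i, (G.obj (DCoh.inD P (F.X i))).IsLE 0) → (G.obj (DCoh.toD P F)).IsLE a := by
  intro k
  induction k with
  | zero =>
    intro F hF _ _
    have h0 : IsZero F := (IsZero.iff_id_eq_zero F).2 (HomologicalComplex.hom_ext _ _ fun i =>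
      (hF i (by push_cast; omega)).eq_of_src _ _)
    exact isLE_of_isZero G (DerivedCategory.Q.map_isZero h0) a
  | succ k ih =>
    intro F hF hka h
    let b : ℤ := lo + k
    let S₁ := (HomologicalComplex.single P.Modules (ComplexShape.up ℤ) b).obj (F.X b)
    let a₁ : S₁ ⟶ F := HomologicalComplex.mkHomFromSingle (𝟙 _) fun j hj => by
      obtain rfl : b + 1 = j := hj
      exact (hF (b + 1) (Or.inr (by simp only [b]; push_cast; omega))).eq_of_tgt _ _
    haveI : ∀ i, Mono (a₁.f i) := fun i => by
      by_cases hi : i = b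
      · subst hi
        rw [HomologicalComplex.mkHomFromSingle_f]
        infer_instance
      · exact (HomologicalComplex.isZero_single_obj_X _ _ _ _ hi).mono _
    haveI : Mono a₁ := HomologicalComplex.mono_of_mono_f a₁ inferInstance
    let S : ShortComplex (CochainComplex P.Modules ℤ) := ShortComplex.mk a₁ (cokernel.π a₁) (cokernel.condition a₁)
    have hS : S.ShortExact := ShortComplex.ShortExact.mk (ShortComplex.exact_of_g_is_cokernel _ (cokernelIsCokernel a₁))
    have hSi : ∀ i, (S.map (HomologicalComplex.eval P.Modules (ComplexShape.up ℤ) i)).ShortExact := fun i =>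
      hS.map_of_exact _
    have hb : IsZero (S.X₃.X b) := by
      haveI : IsIso (a₁.f b) := by
        rw [HomologicalComplex.mkHomFromSingle_f]; infer_instance
      haveI : Epi (S.map (HomologicalComplex.eval P.Modules (ComplexShape.up ℤ) b)).f := inferInstanceAs (Epi (a₁.f b))
      haveI := (hSi b).epi_g
      exact IsZero.of_epi_eq_zero (S.map (HomologicalComplex.eval P.Modules (ComplexShape.up ℤ) b)).g
        ((cancel_epi (S.map (HomologicalComplex.eval P.Modules (ComplexShape.up ℤ) b)).f).1 (by
          rw [comp_zero]; exact (S.map _).zero))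
    have hne : ∀ i, i ≠ b → IsIso ((cokernel.π a₁).f i) := fun i hi =>
      (hSi i).isIso_g_iff.2 (HomologicalComplex.isZero_single_obj_X (ComplexShape.up ℤ) b (F.X b) i hi)
    refine isLE_map_obj₂ G _ (DerivedCategory.triangleOfSES_distinguished hS) a ?_ (ih S.X₃ ?_ (by push_cast at hka; omega) ?_)
    · let e : DCoh.toD P S₁ ≅ (DCoh.inD P (F.X b))⟦(-b : ℤ)⟧ :=
        ((DerivedCategory.singleFunctorIsoCompQ P.Modules b).app (F.X b)).symm ≪≫
          (((DerivedCategory.singleFunctors P.Modules).shiftIso (-b) b 0 (by omega)).app (F.X b)).symm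
      let t := DerivedCategory.TStructure.t (C := Y.Modules)
      haveI h0 : t.IsLE (G.obj (DCoh.inD P (F.X b))) 0 := h b
      have h1 : t.IsLE ((G.obj (DCoh.inD P (F.X b)))⟦(-b : ℤ)⟧) b :=
        t.isLE_shift (G.obj (DCoh.inD P (F.X b))) 0 (-b) b (by omega)
      have h2 : t.IsLE (G.obj ((DCoh.inD P (F.X b))⟦(-b : ℤ)⟧)) b :=
        @Triangulated.TStructure.isLE_of_iso _ _ _ _ _ _ _ t _ _
          ((G.commShiftIso (-b)).app (DCoh.inD P (F.X b))).symm b h1
      have h3 : t.IsLE (G.obj (DCoh.toD P S₁)) b :=
        @Triangulated.TStructure.isLE_of_iso _ _ _ _ _ _ _ t _ _ (G.mapIso e.symm) b h2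
      haveI := h3
      exact t.isLE_of_le (G.obj (DCoh.toD P S₁)) b a (by simp only [b]; push_cast at hka; omega)
    · intro i hi
      by_cases hib : i = b
      · subst hib; exact hb
      · haveI := hne i hib
        exact (hF i (by push_cast; omega)).of_iso (asIso ((cokernel.π a₁).f i)).symm
    · intro i
      by_cases hib : i = b
      · subst hib
        exact isLE_of_isZero G ((DerivedCategory.singleFunctor _ 0).map_isZero hb) 0
      · haveI := hne i hib
        haveI : (DerivedCategory.TStructure.t (C := Y.Modules)).IsLE (G.obj (DCoh.inD P (F.X i))) 0 := h i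
        exact (DerivedCategory.TStructure.t (C := Y.Modules)).isLE_of_iso
          (G.mapIso ((DerivedCategory.singleFunctor _ 0).mapIso (asIso ((cokernel.π a₁).f i)))) 0

end Groth.L10.TwistPush
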